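import Cfsg.Agent.Lib.Helper68.MG.Defs

/-!
# S3620 (Marggraf), primitive case: the extension lemma E (helper42, for helper68's farm MG; paper proof by lead)
-/

set_option autoImplicit false

namespace Cfsg.Agent.Lib.Helper42.MG

open Cfsg.Agent.Lib.Helper68.MG

universe u
variable {Ω : Type u}

theorem E_ncard_image [Finite Ω] (g : Equiv.Perm Ω) (A : Set Ω) : (g '' A).ncard = A.ncard :=
  Set.ncard_image_of_injective A g.injective

/-- conjugates of `Fx G F` by `g` fix the points outside `g '' Fᶜ` -/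
theorem E_conj_mem {G : Subgroup (Equiv.Perm Ω)} {F F' : Set Ω} {g h : Equiv.Perm Ω} (hg : g ∈ G)
    (hh : h ∈ Fx G F) (hF' : ∀ f ∈ F', f ∉ g '' Fᶜ) : g * h * g⁻¹ ∈ Fx G F' := by
  refine ⟨mul_mem (mul_mem hg hh.1) (inv_mem hg), fun f hf => ?_⟩
  have h1 : g⁻¹ f ∈ F := by
    by_contra hc
    exact hF' f hf ⟨g⁻¹ f, hc, by simp⟩
  rw [Equiv.Perm.mul_apply, Equiv.Perm.mul_apply, hh.2 _ h1]
  simp

theorem E_Fx_mono {G : Subgroup (Equiv.Perm Ω)} {F F' : Set Ω} (h : F' ⊆ F) : Fx G F ≤ Fx G F' :=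
  fun _ hg => ⟨hg.1, fun f hf => hg.2 f (h hf)⟩

/-- an element of `Fx G F'` preserves the complement of `F'` -/
theorem E_image_compl {G : Subgroup (Equiv.Perm Ω)} {F' : Set Ω} {μ : Equiv.Perm Ω} (hμ : μ ∈ Fx G F') :
    μ '' F'ᶜ = F'ᶜ := by
  have h1 : μ '' F' = F' := by
    ext x
    constructor
    · rintro ⟨y, hy, rfl⟩
      rw [hμ.2 y hy]; exact hy
    · intro hx
      exact ⟨x, hx, hμ.2 x hx⟩
  rw [Set.image_compl_eq μ.bijective, h1]

theorem E_ext [Finite Ω] (G : Subgroup (Equiv.Perm Ω)) (hP : Prim G) (F : Set Ω) (hF : F.Nonempty)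
    (h2 : 2 ≤ Fᶜ.ncard) (hJ : Jor G F) : ∃ B : Set Ω, Ext G F B := by
  classical
  set Λ : Set Ω := Fᶜ with hΛ
  -- the set of admissible `g`
  let S : Set (Equiv.Perm Ω) := {g | g ∈ G ∧ g '' Λ ≠ Λ ∧ ¬ Disjoint (g '' Λ) Λ}
  have hSne : S.Nonempty := by
    by_contra hc
    rw [Set.not_nonempty_iff_eq_empty] at hc
    have hblk : ∀ g ∈ G, g '' Λ = Λ ∨ Disjoint (g '' Λ) Λ := by
      intro g hg
      by_contra hcon
      push Not at hcon
      have : g ∈ S := ⟨hg, hcon.1, hcon.2⟩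
      rw [hc] at this
      exact this
    rcases hP.2 Λ hblk with h | h
    · have := (Set.ncard_le_one_iff_subsingleton (s := Λ)).2 h
      omega
    · obtain ⟨f, hf⟩ := hF
      have : f ∈ Λ := by rw [h]; trivial
      exact this hf
  obtain ⟨g, hgS, hmin⟩ := Set.exists_min_image S (fun g => (g '' Λ \ Λ).ncard) (Set.toFinite S) hSne
  obtain ⟨hgG, hgne, hgmeet⟩ := hgS
  set B : Set Ω := g '' Λ \ Λ with hB
  have hBΛ : Disjoint Λ B := Set.disjoint_sdiff_right
  have hBF : B ⊆ F := by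
    intro x hx
    by_contra hc
    exact hx.2 hc
  have hcompl : (F \ B)ᶜ = Λ ∪ B := by
    ext x
    simp only [Set.mem_compl_iff, Set.mem_sdiff, Set.mem_union, not_and, not_not, hΛ]
    tauto
  have hunion : Λ ∪ B = Λ ∪ g '' Λ := by
    rw [hB, Set.union_sdiff_self]
  obtain ⟨z, hzg, hzΛ⟩ := Set.not_disjoint_iff.mp hgmeet
  have hBne : B.Nonempty := by
    by_contra hc
    rw [Set.not_nonempty_iff_eq_empty, hB, Set.sdiff_eq_empty] at hc
    exact hgne (Set.eq_of_subset_of_ncard_le hc (by rw [E_ncard_image]))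
  have hBlt : B.ncard < Λ.ncard := by
    rw [← E_ncard_image g Λ]
    refine Set.ncard_lt_ncard ⟨Set.sdiff_subset, fun hsub => ?_⟩ (Set.toFinite _)
    exact (hsub hzg).2 hzΛ
  -- points of `F \ B` lie outside `g '' Λ`
  have hout : ∀ f ∈ F \ B, f ∉ g '' Λ := by
    intro f hf hfg
    exact hf.2 ⟨hfg, fun h => h hf.1⟩
  -- everything outside `F \ B` can be moved to `z`
  have hmove : ∀ x, x ∉ F \ B → ∃ k ∈ Fx G (F \ B), k x = z := by
    intro x hx
    have hx' : x ∈ Λ ∪ g '' Λ := by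
      rw [← hunion, ← hcompl]; exact hx
    rcases hx' with hx1 | hx1
    · obtain ⟨k, hk, hkx⟩ := hJ x hx1 z hzΛ
      exact ⟨k, E_Fx_mono Set.sdiff_subset hk, hkx⟩
    · obtain ⟨x', hx', rfl⟩ := hx1
      obtain ⟨z', hz', rfl⟩ := hzg
      obtain ⟨k, hk, hkx⟩ := hJ x' hx' z' hz'
      refine ⟨g * k * g⁻¹, E_conj_mem hgG hk hout, ?_⟩
      rw [Equiv.Perm.mul_apply, Equiv.Perm.mul_apply]
      simp [hkx]
  refine ⟨B, hBF, hBne, ?_, ?_, hBlt⟩
  · intro x hx y hy
    obtain ⟨k, hk, hkx⟩ := hmove x hx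
    obtain ⟨l, hl, hly⟩ := hmove y hy
    refine ⟨l⁻¹ * k, mul_mem (inv_mem hl) hk, ?_⟩
    rw [Equiv.Perm.mul_apply, hkx, ← hly]
    simp
  · intro μ hμ
    have hpres : μ '' (Λ ∪ B) = Λ ∪ B := by
      rw [← hcompl]; exact E_image_compl hμ
    have hsubΛ : μ '' Λ ⊆ Λ ∪ B := by
      rw [← hpres]; exact Set.image_mono Set.subset_union_left
    have hdisjμ : Disjoint (μ '' Λ) (μ '' B) := (Set.disjoint_image_iff μ.injective).2 hBΛ
    by_cases hμΛ : μ '' Λ = Λ
    · left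
      have h1 : μ '' B = μ '' (Λ ∪ B) \ μ '' Λ := by
        rw [Set.image_union, Set.union_sdiff_left]
        exact (hdisjμ.symm.sdiff_eq_left).symm
      rw [h1, hpres, hμΛ, Set.union_sdiff_left]
      exact hBΛ.symm.sdiff_eq_left
    · right
      have hmeet : ¬ Disjoint (μ '' Λ) Λ := by
        intro hd
        have h1 : (μ '' Λ ∪ Λ).ncard = (μ '' Λ).ncard + Λ.ncard := Set.ncard_union_eq hd
        have h2' : (μ '' Λ ∪ Λ).ncard ≤ (Λ ∪ B).ncard :=
          Set.ncard_le_ncard (Set.union_subset hsubΛ Set.subset_union_left)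
        have h3 : (Λ ∪ B).ncard = Λ.ncard + B.ncard := Set.ncard_union_eq hBΛ
        rw [E_ncard_image] at h1
        omega
      have hμS : μ ∈ S := ⟨hμ.1, hμΛ, hmeet⟩
      have hle : B.ncard ≤ (μ '' Λ \ Λ).ncard := hmin μ hμS
      have hsub : μ '' Λ \ Λ ⊆ B := by
        intro x hx
        rcases hsubΛ hx.1 with h | h
        · exact absurd h hx.2
        · exact h
      have heq : μ '' Λ \ Λ = B := Set.eq_of_subset_of_ncard_le hsub hle
      have hBsub : B ⊆ μ '' Λ := by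
        rw [← heq]; exact Set.sdiff_subset
      exact (hdisjμ.mono_left hBsub).symm

end Cfsg.Agent.Lib.Helper42.MG
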